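import Groth.Prelude.Def_ArtFun2
import Mathlib.RingTheory.AdjoinRoot

/-!
# The Artinian test rings `k[t]/t^n` and `k[t]/t³ ×_k k[ε]`
-/

universe u

open CategoryTheory ArtFun Polynomial

namespace Groth.Agent.NodeDefLib

variable (k : Type u) [Field k]

/-- `k[t]/t^(n+1)`. -/
abbrev TR (n : ℕ) : Type u := AdjoinRoot ((Polynomial.X : k[X]) ^ (n + 1))

/-- The class of `t`. -/
noncomputable def tvar (n : ℕ) : TR k n := AdjoinRoot.root _

/-- The augmentation. -/
noncomputable def trRes (n : ℕ) : TR k n →ₐ[k] k :=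
  AdjoinRoot.liftAlgHom _ (Algebra.ofId k k) 0 (by simp)

theorem trRes_t (n : ℕ) : trRes k n (tvar k n) = 0 := AdjoinRoot.liftAlgHom_root _ _ _ _

theorem tvar_pow (n : ℕ) : tvar k n ^ (n + 1) = 0 := by
  rw [tvar, ← AdjoinRoot.mk_X, ← map_pow, AdjoinRoot.mk_self]

theorem finite_tr (n : ℕ) : Module.Finite k (TR k n) := (Polynomial.monic_X_pow (n + 1)).finite_adjoinRoot

theorem sub_res_mem (n : ℕ) (a : TR k n) : ∃ b, a = algebraMap k _ (trRes k n a) + tvar k n * b := by
  induction a using AdjoinRoot.induction_on with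
  | ih P =>
    refine ⟨AdjoinRoot.mk _ P.divX, ?_⟩
    have h : trRes k n (AdjoinRoot.mk _ P) = P.coeff 0 := by
      rw [trRes, AdjoinRoot.liftAlgHom_mk, Polynomial.coeff_zero_eq_eval_zero]
      rfl
    rw [h]
    conv_lhs => rw [← Polynomial.X_mul_divX_add P]
    rw [map_add, map_mul, AdjoinRoot.mk_X, AdjoinRoot.mk_C, add_comm]
    rfl

theorem isLocalRing_tr (n : ℕ) : IsLocalRing (TR k n) := by
  have : Nontrivial (TR k n) := (trRes k n).toRingHom.domain_nontrivial
  refine IsLocalRing.of_isUnit_or_isUnit_one_sub_self fun a => ?_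
  obtain ⟨b, hb⟩ := sub_res_mem k n a
  have hn : IsNilpotent (tvar k n * b) := ⟨n + 1, by rw [mul_pow, tvar_pow, zero_mul]⟩
  by_cases h : trRes k n a = 0
  · rw [h, map_zero, zero_add] at hb
    exact Or.inr (hb ▸ hn.isUnit_one_sub)
  · exact Or.inl (hb ▸ hn.isUnit_add_left_of_commute ((isUnit_iff_ne_zero.2 h).map _) (Commute.all _ _))

/-- `k[t]/t^(n+1)` as a test object. -/
noncomputable def trArt (n : ℕ) : Art k k :=
  haveI := isLocalRing_tr k n
  haveI := finite_tr k n
  haveI : IsArtinianRing (TR k n) := IsArtinianRing.of_finite k _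
  Art.of (TR k n) (trRes k n) fun c => ⟨algebraMap k _ c, (trRes k n).commutes c⟩

/-- `k[t]/t³ → k[t]/t²`. -/
noncomputable def trunc : TR k 2 →ₐ[k] TR k 1 :=
  AdjoinRoot.liftAlgHom _ (Algebra.ofId k _) (tvar k 1) (by
    simp only [eval₂_pow, eval₂_X]
    rw [pow_succ, tvar_pow, zero_mul])

theorem trunc_t : trunc k (tvar k 2) = tvar k 1 := AdjoinRoot.liftAlgHom_root _ _ _ _

/-- `trunc` as a morphism. -/
noncomputable def truncHom : trArt k 2 ⟶ trArt k 1 :=
  Art.homMk (trunc k) (AdjoinRoot.algHom_ext (show trRes k 1 (trunc k (tvar k 2)) = trRes k 2 (tvar k 2) by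
    rw [trunc_t, trRes_t, trRes_t]))

theorem mul_t_sq (a : TR k 2) : a * tvar k 2 ^ 2 = trRes k 2 a • tvar k 2 ^ 2 := by
  obtain ⟨b, hb⟩ := sub_res_mem k 2 a
  conv_lhs => rw [hb]
  rw [add_mul, mul_right_comm, ← pow_succ', tvar_pow, zero_mul, add_zero, Algebra.smul_def]

theorem ker_trunc {a : TR k 2} (h : trunc k a = 0) : ∃ c : k, a = c • tvar k 2 ^ 2 := by
  induction a using AdjoinRoot.induction_on with
  | ih P =>
    rw [trunc, AdjoinRoot.liftAlgHom_mk] at h
    have h' : AdjoinRoot.mk ((Polynomial.X : k[X]) ^ 2) P = 0 := (AdjoinRoot.aeval_eq P).symm.trans h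
    obtain ⟨Q, rfl⟩ := AdjoinRoot.mk_eq_zero.1 h'
    exact ⟨_, by rw [map_mul, map_pow, AdjoinRoot.mk_X, mul_comm]; exact mul_t_sq k _⟩

theorem t_sq_ne_zero : tvar k 2 ^ 2 ≠ 0 := by
  rw [tvar, ← AdjoinRoot.mk_X, ← map_pow, Ne, AdjoinRoot.mk_eq_zero, Polynomial.X_pow_dvd_iff]
  intro h
  have := h 2 (by omega)
  simp at this

/-- `k[t]/t³ ×_k k[ε]`. -/
noncomputable abbrev PR : Subalgebra k (TR k 2 × DualNumber k) :=
  AlgHom.equalizer ((trRes k 2).comp (AlgHom.fst k (TR k 2) (DualNumber k)))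
    ((TrivSqZeroExt.fstHom k k k).comp (AlgHom.snd k (TR k 2) (DualNumber k)))

/-- The augmentation. -/
noncomputable def prRes : PR k →ₐ[k] k :=
  (trRes k 2).comp ((AlgHom.fst k (TR k 2) (DualNumber k)).comp (PR k).val)

theorem prRes_eq (a : PR k) : (a.1.2).fst = prRes k a := a.2.symm

/-- The first projection. -/
noncomputable def prFst : PR k →ₐ[k] TR k 2 := (AlgHom.fst k _ _).comp (PR k).val

/-- The projection to the dual numbers. -/
noncomputable def prDual : PR k →ₐ[k] DualNumber k := (AlgHom.snd k _ _).comp (PR k).val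

/-- `(a, r + cε) ↦ a + c t²`. -/
noncomputable def prSnd : PR k →ₐ[k] TR k 2 where
  toFun a := a.1.1 + (a.1.2).snd • tvar k 2 ^ 2
  map_one' := by simp
  map_zero' := by simp
  map_add' a b := by simp [add_smul]; abel
  map_mul' a b := by
    have ha : trRes k 2 a.1.1 = (a.1.2).fst := a.2
    have hb : trRes k 2 b.1.1 = (b.1.2).fst := b.2
    have h0 : (tvar k 2 ^ 2) * (tvar k 2 ^ 2) = 0 := by
      rw [← pow_add, show 2 + 2 = 3 + 1 from rfl, pow_succ, tvar_pow, zero_mul]
    show a.1.1 * b.1.1 + (a.1.2 * b.1.2).snd • _ = _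
    rw [TrivSqZeroExt.snd_mul, op_smul_eq_smul, add_smul, smul_eq_mul, smul_eq_mul]
    rw [add_mul, mul_add, mul_add, mul_smul_comm, smul_mul_assoc, smul_mul_assoc, mul_smul_comm, h0,
      mul_comm (tvar k 2 ^ 2) b.1.1, mul_t_sq, mul_t_sq k b.1.1, ha, hb, smul_zero, smul_zero, add_zero,
      smul_smul, smul_smul]
    abel_nf
    module
  commutes' c := by simp [TrivSqZeroExt.algebraMap_eq_inl]

theorem finite_pr : Module.Finite k (PR k) := by
  have := finite_tr k 2
  have : Module.Finite k (DualNumber k) := inferInstanceAs (Module.Finite k (k × k))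
  exact inferInstanceAs (Module.Finite k (PR k).toSubmodule)

theorem isLocalRing_pr : IsLocalRing (PR k) := by
  have : Nontrivial (PR k) := (prRes k).toRingHom.domain_nontrivial
  have := isLocalRing_tr k 2
  refine IsLocalRing.of_isUnit_or_isUnit_one_sub_self fun a => ?_
  have hn : IsNilpotent (a - algebraMap k _ (prRes k a)) := by
    obtain ⟨b, hb⟩ := sub_res_mem k 2 a.1.1
    refine ⟨2 + 1, Subtype.ext (Prod.ext ?_ ?_)⟩
    · show (a.1.1 - algebraMap k _ (trRes k 2 a.1.1)) ^ (2 + 1) = 0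
      rw [sub_eq_iff_eq_add'.2 hb, mul_pow, tvar_pow, zero_mul]
    · show (a.1.2 - algebraMap k (DualNumber k) (prRes k a)) ^ (2 + 1) = 0
      have h : (a.1.2 - algebraMap k (DualNumber k) (prRes k a)).fst = 0 := by
        simp [prRes_eq, TrivSqZeroExt.algebraMap_eq_inl]
      generalize a.1.2 - algebraMap k (DualNumber k) (prRes k a) = z at h
      have hz : z * z = 0 := TrivSqZeroExt.ext (by simp [h]) (by simp [TrivSqZeroExt.snd_mul, h])
      rw [pow_succ, pow_two, hz, zero_mul]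
  by_cases h : prRes k a = 0
  · rw [h, map_zero, sub_zero] at hn
    exact Or.inr hn.isUnit_one_sub
  · refine Or.inl ?_
    have := hn.isUnit_add_left_of_commute ((isUnit_iff_ne_zero.2 h).map (algebraMap k (PR k))) (Commute.all _ _)
    rwa [add_sub_cancel] at this

/-- `k[t]/t³ ×_k k[ε]` as a test object. -/
noncomputable def prArt : Art k k :=
  haveI := isLocalRing_pr k
  haveI := finite_pr k
  haveI : IsArtinianRing (PR k) := IsArtinianRing.of_finite k _
  Art.of (PR k) (prRes k) fun c => ⟨algebraMap k _ c, (prRes k).commutes c⟩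

/-- First projection, as a morphism. -/
noncomputable def fstHom : prArt k ⟶ trArt k 2 := Art.homMk (prFst k) rfl

/-- Second projection, as a morphism. -/
noncomputable def sndHom : prArt k ⟶ trArt k 2 :=
  Art.homMk (prSnd k) (AlgHom.ext fun a => by
    show trRes k 2 (a.1.1 + (a.1.2).snd • tvar k 2 ^ 2) = trRes k 2 a.1.1
    rw [map_add, map_smul, map_pow, trRes_t, zero_pow two_ne_zero, smul_zero, add_zero])

/-- Projection to the dual numbers, as a morphism. -/
noncomputable def dualHom : prArt k ⟶ Art.dual k k :=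
  Art.homMk (prDual k) (AlgHom.ext fun a => prRes_eq k a)

theorem isFibreProd : Art.IsFibreProd (fstHom k) (sndHom k) (truncHom k) (truncHom k) := by
  refine ⟨Art.hom_ext (AlgHom.ext fun (a : PR k) => ?_), fun (a b : PR k) h1 h2 => ?_, fun (a b : TR k 2) h => ?_⟩
  · show trunc k a.1.1 = trunc k (a.1.1 + (a.1.2).snd • tvar k 2 ^ 2)
    rw [map_add, map_smul, map_pow, trunc_t, show tvar k 1 ^ 2 = 0 from tvar_pow k 1, smul_zero, add_zero]
  · change a.1.1 = b.1.1 at h1
    change a.1.1 + (a.1.2).snd • tvar k 2 ^ 2 = b.1.1 + (b.1.2).snd • tvar k 2 ^ 2 at h2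
    rw [h1, add_right_inj, ← sub_eq_zero, ← sub_smul, smul_eq_zero, sub_eq_zero] at h2
    refine Subtype.ext (Prod.ext h1 (TrivSqZeroExt.ext ?_ (h2.resolve_right (t_sq_ne_zero k))))
    exact (prRes_eq k a).trans ((congrArg (trRes k 2) h1).trans (prRes_eq k b).symm)
  · change trunc k a = trunc k b at h
    have h' : trunc k (b - a) = 0 := by rw [map_sub, h, sub_self]
    obtain ⟨c, hc⟩ := ker_trunc k h'
    let z : DualNumber k := TrivSqZeroExt.inl (trRes k 2 a) + TrivSqZeroExt.inr c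
    have hz : trRes k 2 a = z.fst := by simp [z]
    refine ⟨(⟨(a, z), hz⟩ : PR k), rfl, ?_⟩
    show (a + z.snd • tvar k 2 ^ 2 : TR k 2) = b
    rw [show z.snd = c by simp [z], ← hc, add_sub_cancel]

end Groth.Agent.NodeDefLib
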