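import Groth.Prelude.Def_ArtFun4
import Groth.Agent.NodeDefLib.Rings
import Groth.Agent.FlatCrit.Inj
import Mathlib.RingTheory.TensorProduct.MvPolynomial
import Mathlib.RingTheory.Polynomial.Basic
import Mathlib.RingTheory.Artinian.Ring
import Mathlib.RingTheory.HopkinsLevitzki

/-!
# The deformations `xy = c` of the node
-/

universe u

open CategoryTheory CategoryTheory.Limits AlgebraicGeometry ArtFun MvPolynomial

namespace Groth.Agent.NodeDefLib

set_option backward.isDefEq.respectTransparency.types false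

section Flat

open IsLocalRing TensorProduct

/-- A hypersurface whose equation is nonzero modulo the nilpotent maximal ideal is flat. -/
theorem flat_quot_span {A : Type u} [CommRing A] [IsArtinianRing A] [IsLocalRing A] {σ : Type} [Finite σ]
    (p : MvPolynomial σ A) (hp : MvPolynomial.map (algebraMap A (ResidueField A)) p ≠ 0) :
    Module.Flat A (MvPolynomial σ A ⧸ Ideal.span {p}) := by
  let u : MvPolynomial σ A →ₗ[A] MvPolynomial σ A := LinearMap.mulRight A p
  have hinj : Function.Injective (u.lTensor (ResidueField A)) := by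
    let e := MvPolynomial.algebraTensorAlgEquiv A (σ := σ) (ResidueField A)
    have he : ∀ z, e (u.lTensor (ResidueField A) z) = e z * MvPolynomial.map (algebraMap A (ResidueField A)) p := by
      intro z
      induction z with
      | zero => simp
      | add a b ha hb => rw [map_add, map_add, ha, hb, map_add, add_mul]
      | tmul a q => simp [e, u, MvPolynomial.algebraTensorAlgEquiv_tmul, smul_mul_assoc]
    intro z w hzw
    have := congrArg e hzw
    rw [he, he] at this
    exact e.injective (mul_right_cancel₀ hp this)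
  have hjac : (maximalIdeal A).map (algebraMap A (MvPolynomial σ A)) ≤ Ideal.jacobson ⊥ := by
    rw [Ideal.map_le_iff_le_comap]
    intro a ha
    rw [Ideal.mem_comap, Ideal.mem_jacobson_bot]
    intro y
    obtain ⟨n, hn⟩ := IsArtinianRing.isNilpotent_jacobson_bot (R := A)
    have hnil : IsNilpotent a := ⟨n, by
      have : a ∈ Ideal.jacobson (⊥ : Ideal A) := by rwa [IsLocalRing.jacobson_eq_maximalIdeal ⊥ bot_ne_top]
      have h := Ideal.pow_mem_pow this n
      rwa [hn] at h⟩
    obtain ⟨m, hm⟩ := hnil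
    exact IsNilpotent.isUnit_add_one ⟨m, by rw [mul_pow, ← map_pow, hm, map_zero, zero_mul]⟩
  have hfl := FlatCrit.flat_coker_of_injective_mod_max (S := MvPolynomial σ A) u hinj hjac
  have e : LinearMap.range u = (Ideal.span {p}).restrictScalars A := by
    ext x
    simp [u, Ideal.mem_span_singleton', eq_comm]
  haveI := hfl
  exact Module.Flat.of_linearEquiv (e := (Submodule.Quotient.restrictScalarsEquiv A _).symm ≪≫ₗ (Submodule.quotEquivOfEq _ _ e).symm)

end Flat

section Red

variable {σ : Type} {A B : Type u} [CommRing A] [CommRing B] (φ : A →+* B) (p : MvPolynomial σ A) (q : MvPolynomial σ B)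

/-- The map of hypersurface rings induced by a map of coefficients. -/
noncomputable def redMap (h : MvPolynomial.map φ p = q) :
    MvPolynomial σ A ⧸ Ideal.span {p} →+* MvPolynomial σ B ⧸ Ideal.span {q} :=
  Ideal.quotientMap _ (MvPolynomial.map φ) (by
    rw [Ideal.span_le, Set.singleton_subset_iff]
    exact Ideal.mem_comap.2 (h ▸ Ideal.mem_span_singleton_self _))

@[simp] theorem redMap_mk (h : MvPolynomial.map φ p = q) (P : MvPolynomial σ A) :
    redMap φ p q h (Ideal.Quotient.mk _ P) = Ideal.Quotient.mk _ (MvPolynomial.map φ P) := rfl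

theorem isPushout_redMap (hφ : Function.Surjective φ) (h : MvPolynomial.map φ p = q) :
    IsPushout (CommRingCat.ofHom (algebraMap A (MvPolynomial σ A ⧸ Ideal.span {p}))) (CommRingCat.ofHom φ)
      (CommRingCat.ofHom (redMap φ p q h)) (CommRingCat.ofHom (algebraMap B (MvPolynomial σ B ⧸ Ideal.span {q}))) := by
  have hw : (redMap φ p q h).comp (algebraMap A _) = (algebraMap B _).comp φ := RingHom.ext fun a => by
    show redMap φ p q h (Ideal.Quotient.mk _ (C a)) = Ideal.Quotient.mk _ (C (φ a))
    rw [redMap_mk, map_C]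
  have hg : Function.Surjective (redMap φ p q h) := by
    intro y
    obtain ⟨Q, rfl⟩ := Ideal.Quotient.mk_surjective y
    obtain ⟨P, rfl⟩ := MvPolynomial.map_surjective φ hφ Q
    exact ⟨_, redMap_mk ..⟩
  have hker : RingHom.ker (redMap φ p q h) ≤ (RingHom.ker φ).map (algebraMap A _) := by
    intro x hx
    obtain ⟨P, rfl⟩ := Ideal.Quotient.mk_surjective x
    rw [RingHom.mem_ker, redMap_mk, Ideal.Quotient.eq_zero_iff_mem, Ideal.mem_span_singleton'] at hx
    obtain ⟨H, hH⟩ := hx
    obtain ⟨H', rfl⟩ := MvPolynomial.map_surjective φ hφ H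
    have h0 : P - H' * p ∈ RingHom.ker (MvPolynomial.map φ) := by
      rw [RingHom.mem_ker, map_sub, map_mul, h, hH, sub_self]
    rw [MvPolynomial.ker_map] at h0
    have h1 := Ideal.mem_map_of_mem (Ideal.Quotient.mk (Ideal.span {p})) h0
    rw [Ideal.map_map, map_sub, map_mul, Ideal.Quotient.eq_zero_iff_mem.2 (Ideal.mem_span_singleton_self p),
      mul_zero, sub_zero] at h1
    exact h1
  refine IsPushout.of_isColimit' ⟨CommRingCat.hom_ext hw⟩ (PushoutCocone.IsColimit.mk _
    (fun s => CommRingCat.ofHom (RingHom.liftOfSurjective (redMap φ p q h) hg ⟨s.inl.hom, ?_⟩)) ?_ ?_ ?_)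
  · refine hker.trans (Ideal.map_le_iff_le_comap.2 fun a ha => ?_)
    have := congrArg (fun m => m.hom a) s.condition
    simp only [CommRingCat.hom_comp, CommRingCat.hom_ofHom, RingHom.comp_apply] at this
    rw [Ideal.mem_comap, RingHom.mem_ker, this, RingHom.mem_ker.1 ha, map_zero]
  · intro s
    exact CommRingCat.hom_ext (RingHom.liftOfSurjective_comp _ hg _)
  · intro s
    refine CommRingCat.hom_ext (RingHom.ext fun b => ?_)
    obtain ⟨a, rfl⟩ := hφ b
    have := congrArg (fun m => m.hom a) s.condition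
    simp only [CommRingCat.hom_comp, CommRingCat.hom_ofHom, RingHom.comp_apply] at this ⊢
    refine (congrArg (RingHom.liftOfSurjective (redMap φ p q h) hg ⟨s.inl.hom, _⟩) (DFunLike.congr_fun hw a).symm).trans ?_
    exact (DFunLike.congr_fun (RingHom.liftOfSurjective_comp (redMap φ p q h) hg ⟨s.inl.hom, _⟩) _).trans this
  · intro s m h1 h2
    refine CommRingCat.hom_ext (RingHom.ext fun y => ?_)
    obtain ⟨x, rfl⟩ := hg y
    refine (congrArg (fun n => n.hom x) h1).trans ?_
    exact (DFunLike.congr_fun (RingHom.liftOfSurjective_comp (redMap φ p q h) hg ⟨s.inl.hom, _⟩) x).symm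

end Red

variable {k : Type u} [Field k]

/-- The equation `xy - c`. -/
noncomputable def eqn {A : Type u} [CommRing A] (c : A) : MvPolynomial (Fin 2) A := X 0 * X 1 - C c

/-- The coordinate ring of `xy = c`. -/
abbrev RA (A : Type u) [CommRing A] (c : A) : Type u := MvPolynomial (Fin 2) A ⧸ Ideal.span {eqn c}

/-- The coordinate ring of the node. -/
abbrev NR (k : Type u) [Field k] : Type u :=
  MvPolynomial (Fin 2) k ⧸ Ideal.span {(X 0 * X 1 : MvPolynomial (Fin 2) k)}

/-- The node. -/
noncomputable abbrev nodeX (k : Type u) [Field k] : Scheme.{u} := Spec (CommRingCat.of (NR k))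

/-- Its structure map. -/
noncomputable abbrev nodex (k : Type u) [Field k] : nodeX k ⟶ Art.specPt k :=
  Spec.map (CommRingCat.ofHom (algebraMap k (NR k)))

theorem map_eqn {A B : Type u} [CommRing A] [CommRing B] (φ : A →+* B) (c : A) :
    MvPolynomial.map φ (eqn c) = eqn (φ c) := by
  simp [eqn]

variable {A B : Art k k}

theorem map_res_eqn (c : A) (hc : A.res c = 0) :
    MvPolynomial.map A.res.toRingHom (eqn c) = (X 0 * X 1 : MvPolynomial (Fin 2) k) := by
  rw [map_eqn, show A.res.toRingHom c = 0 from hc]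
  simp [eqn]

theorem flat_RA (c : A) : (algebraMap A (RA A c)).Flat := by
  rw [RingHom.flat_algebraMap_iff]
  refine flat_quot_span _ fun h => ?_
  rw [map_eqn] at h
  have := congrArg (coeff (Finsupp.single 0 1 + Finsupp.single 1 1)) h
  rw [eqn, X, X, monomial_mul, coeff_sub, coeff_monomial, if_pos rfl, coeff_C, if_neg, coeff_zero] at this
  · simp at this
  · intro h0
    have := DFunLike.congr_fun h0 0
    simp at this

/-- The deformation `xy = c` of the node. -/
noncomputable def nodeDef (c : A) (hc : A.res c = 0) : DefSch (nodeX k) (nodex k) A where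
  total := Spec (CommRingCat.of (RA A c))
  f := Spec.map (CommRingCat.ofHom (algebraMap A (RA A c)))
  flat := Flat.SpecMap_iff.2 (flat_RA c)
  i := Spec.map (CommRingCat.ofHom (redMap A.res.toRingHom (eqn c) (X 0 * X 1) (map_res_eqn c hc)))
  isPullback := isPullback_SpecMap_of_isPushout _ _ _ _ (isPushout_redMap _ _ _ A.res_surjective _)

/-- Its class. -/
noncomputable def ncl (c : A) (hc : A.res c = 0) : (defFunctor (nodeX k) (nodex k)).obj A := (nodeDef c hc).cl

theorem ncl_congr {c d : A} (h : c = d) (hc : A.res c = 0) : ncl c hc = ncl d (h ▸ hc) := by subst h; rfl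

theorem res_map (g : A ⟶ B) (c : A) (hc : A.res c = 0) : B.res (g c) = 0 :=
  (DFunLike.congr_fun g.res_comp c).trans hc

theorem map_ncl (g : A ⟶ B) (hg : Function.Surjective g) (c : A) (hc : A.res c = 0) :
    (defFunctor (nodeX k) (nodex k)).map g (ncl c hc) = ncl (g c) (res_map g c hc) := by
  have hpb := isPullback_SpecMap_of_isPushout _ _ _ _
    (isPushout_redMap g.toAlgHom.toRingHom (eqn c) (eqn (g c)) hg (map_eqn _ _))
  refine (defFunctor_map_cl g _).trans (Quotient.sound ⟨?_⟩)
  refine ⟨(IsPullback.of_hasPullback _ _).isoIsPullback _ _ hpb, IsPullback.isoIsPullback_hom_snd _ _ _ _, ?_⟩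
  apply hpb.hom_ext
  · erw [Category.assoc, IsPullback.isoIsPullback_hom_fst]
    refine (DefSch.baseChange_i_fst _ g).trans ?_
    show Spec.map _ = Spec.map _ ≫ Spec.map _
    rw [← Spec.map_comp, ← CommRingCat.ofHom_comp]
    congr 2
    refine Ideal.Quotient.ringHom_ext (RingHom.ext fun P => ?_)
    simp only [RingHom.comp_apply, redMap_mk, MvPolynomial.map_map]
    exact congrArg (fun f => Ideal.Quotient.mk _ (MvPolynomial.map f P)) (congrArg AlgHom.toRingHom g.res_comp).symm
  · erw [Category.assoc, IsPullback.isoIsPullback_hom_snd]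
    exact (DefSch.baseChange_i_f _ g).trans (nodeDef (g c) (res_map g c hc)).i_f.symm

section Scale

variable {R : Type u} [CommRing R]

/-- `x ↦ v x`, `y ↦ y`. -/
noncomputable def sclHom (v c d : R) (h : d = v * c) : RA R d →ₐ[R] RA R c :=
  Ideal.Quotient.liftₐ _ (aeval ![Ideal.Quotient.mk _ (C v * X 0), Ideal.Quotient.mk _ (X 1)]) (by
    intro a ha
    obtain ⟨b, rfl⟩ := Ideal.mem_span_singleton'.1 ha
    rw [map_mul]
    convert mul_zero _
    rw [show eqn d = X 0 * X 1 - C d from rfl, map_sub, map_mul, aeval_X, aeval_X, aeval_C]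
    show Ideal.Quotient.mk _ (C v * X 0) * Ideal.Quotient.mk _ (X 1) - Ideal.Quotient.mk _ (C d) = 0
    rw [← map_mul, ← map_sub, Ideal.Quotient.eq_zero_iff_mem, Ideal.mem_span_singleton']
    exact ⟨C v, by rw [eqn, h, map_mul]; ring⟩)

theorem sclHom_X0 (v c d : R) (h : d = v * c) :
    sclHom v c d h (Ideal.Quotient.mk _ (X 0)) = Ideal.Quotient.mk _ (C v * X 0) :=
  (aeval_X _ _).trans rfl

theorem sclHom_X1 (v c d : R) (h : d = v * c) :
    sclHom v c d h (Ideal.Quotient.mk _ (X 1)) = Ideal.Quotient.mk _ (X 1) :=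
  (aeval_X _ _).trans rfl

theorem sclHom_comp (v w c d : R) (h : d = v * c) (h' : c = w * d) (hvw : v * w = 1) :
    (sclHom v c d h).comp (sclHom w d c h') = AlgHom.id R _ := by
  refine Ideal.Quotient.algHom_ext R (MvPolynomial.algHom_ext fun i => ?_)
  fin_cases i
  · show sclHom v c d h (sclHom w d c h' (Ideal.Quotient.mk _ (X 0))) = Ideal.Quotient.mk _ (X 0)
    rw [sclHom_X0, map_mul, map_mul, sclHom_X0, show Ideal.Quotient.mk _ (C w) = algebraMap R (RA R d) w from rfl,
      AlgHom.commutes, show algebraMap R (RA R c) w = Ideal.Quotient.mk _ (C w) from rfl, ← map_mul, ← mul_assoc,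
      ← map_mul C, mul_comm w, hvw, map_one, one_mul]
  · show sclHom v c d h (sclHom w d c h' (Ideal.Quotient.mk _ (X 1))) = Ideal.Quotient.mk _ (X 1)
    rw [sclHom_X1, sclHom_X1]

end Scale

theorem ncl_eq_of_algEquiv {c d : A} (hc : A.res c = 0) (hd : A.res d = 0) (e : RA A d ≃ₐ[A] RA A c)
    (he : ∀ i, redMap _ _ _ (map_res_eqn c hc) (e (Ideal.Quotient.mk _ (X i))) = Ideal.Quotient.mk _ (X i)) :
    ncl c hc = ncl d hd := by
  refine Quotient.sound ⟨(⟨Scheme.Spec.mapIso e.toRingEquiv.toCommRingCatIso.op, ?_, ?_⟩ :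
    DefSch.Iso (nodeDef c hc) (nodeDef d hd))⟩
  · show Spec.map _ ≫ Spec.map _ = Spec.map _
    rw [← Spec.map_comp]
    exact congrArg Spec.map (CommRingCat.hom_ext (RingHom.ext fun a => e.commutes a))
  · show Spec.map _ ≫ Spec.map _ = Spec.map _
    rw [← Spec.map_comp]
    refine congrArg Spec.map (CommRingCat.hom_ext (Ideal.Quotient.ringHom_ext
      (MvPolynomial.ringHom_ext (fun a => ?_) fun i => ?_)))
    · show redMap _ _ _ (map_res_eqn c hc) (e (algebraMap A _ a)) = redMap _ _ _ (map_res_eqn d hd) (algebraMap A _ a)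
      rw [e.commutes]
      show Ideal.Quotient.mk _ (MvPolynomial.map _ (C a)) = Ideal.Quotient.mk _ (MvPolynomial.map _ (C a))
      rfl
    · refine (he i).trans ?_
      show Ideal.Quotient.mk _ (X i) = Ideal.Quotient.mk _ (MvPolynomial.map _ (X i))
      rw [MvPolynomial.map_X]

theorem ncl_mul (c u : A) (hc : A.res c = 0) (hu : A.res u = 1) :
    ncl (u * c) (by rw [map_mul, hc, mul_zero]) = ncl c hc := by
  have hU : IsUnit u := by
    by_contra h
    have h2 : A.res u = 0 := (Art.mem_maximalIdeal_iff A u).1 ((IsLocalRing.mem_maximalIdeal u).2 h)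
    exact one_ne_zero (hu.symm.trans h2)
  obtain ⟨w, hw⟩ := hU.exists_right_inv
  have hw' : c = w * (u * c) := by rw [← mul_assoc, mul_comm w, hw, one_mul]
  refine (ncl_eq_of_algEquiv hc _ (AlgEquiv.ofAlgHom (sclHom u c (u * c) rfl) (sclHom w (u * c) c hw')
    (sclHom_comp _ _ _ _ _ _ hw) (sclHom_comp _ _ _ _ _ _ (by rw [mul_comm, hw]))) fun i => ?_).symm
  rw [AlgEquiv.ofAlgHom_apply]
  fin_cases i
  · show redMap _ _ _ (map_res_eqn c hc) (sclHom u c (u * c) rfl (Ideal.Quotient.mk _ (X 0))) = Ideal.Quotient.mk _ (X 0)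
    rw [sclHom_X0, redMap_mk, map_mul, MvPolynomial.map_C, MvPolynomial.map_X, show A.res.toRingHom u = 1 from hu, MvPolynomial.C_1, one_mul]
  · show redMap _ _ _ (map_res_eqn c hc) (sclHom u c (u * c) rfl (Ideal.Quotient.mk _ (X 1))) = Ideal.Quotient.mk _ (X 1)
    rw [sclHom_X1, redMap_mk, MvPolynomial.map_X]

theorem ncl_zero_ne_eps :
    ncl (A := Art.dual k k) (0 : DualNumber k) (map_zero _) ≠ ncl (A := Art.dual k k) (DualNumber.eps : DualNumber k) DualNumber.fst_eps := by
  intro h
  obtain ⟨e⟩ := Quotient.exact h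
  obtain ⟨ψ, hψ⟩ := Spec.map_surjective e.iso.hom
  have h1 := e.hom_f
  have h2 := e.i_hom
  rw [← hψ] at h1 h2
  change Spec.map _ ≫ Spec.map _ = Spec.map _ at h1
  change Spec.map _ ≫ Spec.map _ = Spec.map _ at h2
  rw [← Spec.map_comp] at h1 h2
  have h1' := Spec.map_injective h1
  have h2' := Spec.map_injective h2
  let f : RA (DualNumber k) DualNumber.eps →+* RA (DualNumber k) 0 := ψ.hom
  have hc : ∀ a, f (algebraMap (DualNumber k) _ a) = algebraMap (DualNumber k) _ a := fun a =>
    congrArg (fun m => m.hom a) h1'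
  have hr : ∀ z, redMap _ _ _ (map_res_eqn (A := Art.dual k k) (0 : DualNumber k) (map_zero _)) (f z) =
      redMap _ _ _ (map_res_eqn (A := Art.dual k k) (DualNumber.eps : DualNumber k) DualNumber.fst_eps) z := fun z =>
    congrArg (fun m => m.hom z) h2'
  let ev : RA (DualNumber k) 0 →+* DualNumber k := Ideal.Quotient.lift _ (eval 0) (by
    intro a ha
    obtain ⟨b, rfl⟩ := Ideal.mem_span_singleton'.1 ha
    simp [eqn])
  let evk : NR k →+* k := Ideal.Quotient.lift _ (eval 0) (by
    intro a ha
    obtain ⟨b, rfl⟩ := Ideal.mem_span_singleton'.1 ha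
    simp)
  have hcomp : ∀ z, (ev z).fst = evk (redMap _ _ _ (map_res_eqn (A := Art.dual k k) (0 : DualNumber k) (map_zero _)) z) := by
    intro z
    obtain ⟨P, rfl⟩ := Ideal.Quotient.mk_surjective z
    show (eval 0 P).fst = eval 0 (MvPolynomial.map _ P)
    rw [eval_map, eval₂_eq_eval_map]
    induction P using MvPolynomial.induction_on with
    | C a => simp; rfl
    | add p q hp hq => simp [hp, hq]; rfl
    | mul_X p i hp => simp
  have hfst : ∀ i, (ev (f (Ideal.Quotient.mk _ (X i)))).fst = 0 := by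
    intro i
    rw [hcomp, hr]
    show eval 0 (MvPolynomial.map _ (X i)) = 0
    rw [MvPolynomial.map_X]
    exact eval_X i
  have hrel : (Ideal.Quotient.mk _ (X 0) * Ideal.Quotient.mk _ (X 1) : RA (DualNumber k) DualNumber.eps) =
      algebraMap (DualNumber k) _ DualNumber.eps := by
    rw [← map_mul, ← sub_eq_zero]
    exact Ideal.Quotient.eq_zero_iff_mem.2 (Ideal.mem_span_singleton_self _)
  have := congrArg (fun z => ev (f z)) hrel
  simp only [map_mul, hc] at this
  have h0 : ev (algebraMap (DualNumber k) _ DualNumber.eps) = DualNumber.eps := eval_C _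
  rw [h0] at this
  have h3 := congrArg TrivSqZeroExt.snd this
  rw [TrivSqZeroExt.snd_mul, hfst, hfst, DualNumber.snd_eps] at h3
  simp at h3

end Groth.Agent.NodeDefLib
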